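import Cfsg.Agent.H826.RgF.Glue
import Cfsg.Agent.H410.Rg.YSec
import Cfsg.Agent.H119.Rg.Opp

/-!
# S3691, row plus type, m ≥ 5 : the case m even, r_(m-1) in X (helper499, for helper826)
-/

set_option autoImplicit false
set_option linter.unusedSectionVars false

namespace Cfsg.Agent.H499.Rg

open Module QuadraticMap Cfsg Cfsg.Geo Cfsg.Agent.LieClassical.OrthCore Cfsg.Agent.LieClassical.OrthTrans
  Cfsg.Agent.H454.Reg Cfsg.Agent.H449.Reg Cfsg.Agent.H955 Cfsg.Agent.H954.TSing Cfsg.Agent.H884.El Cfsg.Agent.H826.RgF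
open Cfsg.Agent.H951 (fx cm Inv)
open Cfsg.Agent.H826.Rg (preE mem_preE preE_le_E preE_le_O mem_preE_iff mem_preE_iff' card_preE)
open Cfsg.Agent.H964.Rg (ResV ResP Cx)
open Cfsg.Agent.LieClassical.OrthFinite (glEquiv glEquiv_apply)
open scoped MatrixGroups Matrix

universe u

variable {ι : Type} [Fintype ι] [DecidableEq ι] {F : Type} [Field F] [Fintype F] {Q : QuadraticForm F (ι → F)}
variable {G : Type u} [Group G] [Finite G] {T : Subgroup G} [T.Normal] {hG : Good Q} {eT : T ≃* POmega F (⇑Q)}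
  {hI : Ind (eP hG eT)} {X Y : Subgroup G} {p f m : ℕ}

theorem ne_two_of_pp {q e r : ℕ} (h : PP q e r) (he : 2 ≤ e) : r ≠ 2 := by
  have := h.lt (by omega)
  omega

/-- an element of order `t`, `dim [V, g] = 6`, in the factor `Y` -/
theorem exists_six (h : Cx hI X Y p f m (2 * m - 2)) (hm : m = 6) {t : ℕ} (ht : PP p (f * 6) t)
    (hX : ¬ t ∣ Nat.card (X.subgroupOf T)) :
    ∃ g ∈ preE (eP hG eT) Y, g ^ t = 1 ∧ finrank F (fx (g : Module.End F (ι → F))) + 6 = finrank F (ι → F) := by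
  have hQ : Nondeg Q := hG.nondeg
  have ht' := h.pp ht
  have ht2 : t ≠ 2 := ne_two_of_pp ht' (by norm_num)
  obtain ⟨g, hg, hgt, hg1, hgd⟩ := exists_g (A := 1) hQ ht' (by decide) (by norm_num) le_rfl
    (Or.inl ⟨by rw [h.dim]; exact even_two_mul m, Or.inl (by rw [h.dim, hm]; norm_num)⟩)
  obtain ⟨c, hc⟩ := H119.Rg.full_conj (eT := eT) h.fac h.data ht.prime ht2 (h.out 6 t (by norm_num) ht) hX hg hgt
  have hcr : (c * g * c⁻¹) ^ t = 1 := by rw [conj_pow, hgt, mul_one, mul_inv_cancel]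
  have hc' : glEquiv ι F (c * g * c⁻¹) ∈ preE (eP hG eT) Y := mem_preE_iff.2 hc
  have hct : (glEquiv ι F (c * g * c⁻¹)) ^ t = 1 := by rw [← map_pow, hcr, map_one]
  refine ⟨glEquiv ι F (c * g * c⁻¹), hc', hct, ?_⟩
  have hiso := iso_of ht' (by norm_num) (preE_le_O hc') hct
  have hlin : (glEquiv ι F (c * g * c⁻¹) : Module.End F (ι → F)) = lin (c * g * c⁻¹) := by
    rfl
  have h1 := hiso.finrank_add
  rw [hlin] at h1 ⊢
  rw [finrank_cm_conj, hgd] at h1
  omega

/-- **me_y2**: `m` even, `r2` in `X`, `r4` in `Y`, `r_(m-1)` in `X`; `hNB` = `not_both_rd` -/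
theorem me_y2_of (h : Cx hI X Y p f m (2 * m - 2)) (e : Nonempty (T ≃* POmega F (quadFormPlus m F))) (hP : IsPlus Q) (hm : 6 ≤ m)
    (he : Even m) (hq : m = 6 → 2 < p ^ f) {r2 i r4 j w b c : ℕ} (hD : DEv F p f m r2 i r4 j w b c)
    (h2 : r2 ^ i ∣ Nat.card (X.subgroupOf T)) (h4 : r4 ^ j ∣ Nat.card (Y.subgroupOf T)) (hw : w ∣ Nat.card (X.subgroupOf T))
    (hNB : Rd (preE (eP hG eT) X) → Rd (preE (eP hG eT) Y) → False) : False := by
  have hQ : Nondeg Q := hG.nondeg
  have hdim := h.finrank_V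
  have hev := hD.ev
  have hdc := hev.dc
  have hw' := h.pp hev.ppw
  have hr4' := h.pp hdc.pp4
  have hr2' := h.pp hdc.pp2
  have hpos := h.pos
  have hwo : Odd (m - 1) := by
    obtain ⟨k, hk⟩ := he
    exact ⟨k - 1, by omega⟩
  have hr4d : r4 ∣ Nat.card (Y.subgroupOf T) := (dvd_pow_self r4 (by have := hdc.pos4; omega)).trans h4
  have hr2d : r2 ∣ Nat.card (X.subgroupOf T) := (dvd_pow_self r2 (by have := hdc.pos2; omega)).trans h2
  -- `A`
  have hXr2 : El (preE (eP hG eT) X) (r2 ^ i) := el_preE h hdc.pp2 (by omega) (by omega) h2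
  have hXw : El (preE (eP hG eT) X) w := el_prime hev.ppw.prime hw
  have hwX : w ∣ Nat.card (preE (eP hG eT) X) := hw.trans card_dvd_preE
  have hRX : Rd (preE (eP hG eT) X) := by
    rcases hev.lo2 hQ hdim _ preE_le_O hXr2 hXw with h5 | ⟨s, hs, hsd, hA⟩ | h5
    · exact h5
    · exfalso
      have hs2 : s = 2 := by
        have h6 : s ∣ 2 := by
          have h7 := Nat.dvd_sub (hsd.trans (Nat.gcd_dvd_left _ _)) (hsd.trans (Nat.gcd_dvd_right _ _))
          rwa [show 2 * m - (2 * m - 2) = 2 by omega] at h7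
        exact (Nat.prime_dvd_prime_iff_eq hs Nat.prime_two).1 h6
      subst hs2
      exact H522.Rg.o_not_two_odd hQ preE_le_O hw' hwo (by omega) (by rw [hdim]; omega) hwX hA
    · exact absurd h5 (not_E_le h.fac.not_le_left)
  have hr4X : ¬ r4 ∣ Nat.card (preE (eP hG eT) X) := by
    rw [dvd_preE_iff hdc.pp4.prime (ne_two_of_pp hr4' (by omega))]
    intro h5
    exact h.not_both hr4' (by omega) (by omega) h5 hr4d
  obtain ⟨h20, -, h6X, h3X⟩ := H410.Rg.y2_sec hQ hdim he hm hP preE_le_O hr2' rfl hdc.pos2 hXr2 hw' hXw hr4' hr4X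
    hD.lo2b hD.ls2 hRX
  -- `B`
  have hRY : ¬ Rd (preE (eP hG eT) Y) := fun h5 => hNB hRX h5
  have hirr : ∀ W : Submodule F (ι → F), (∀ g ∈ preE (eP hG eT) Y, ∀ w ∈ W, g w ∈ W) → W = ⊥ ∨ W = ⊤ := by
    intro W hW
    by_contra hcon
    push Not at hcon
    exact hRY ⟨W, hcon.1, hcon.2, hW⟩
  have hYr4 : El (preE (eP hG eT) Y) (r4 ^ j) := el_preE h.symm hdc.pp4 (by omega) (by omega) h4
  have hYc : El (preE (eP hG eT) Y) c := by
    rcases hev.hc with rfl | hc
    · exact ⟨1, one_mem _, orderOf_one⟩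
    · rcases Nat.lt_or_ge m 8 with h8 | h8
      · rw [hD.c6 h8]
        exact ⟨1, one_mem _, orderOf_one⟩
      · have hc' := h.pp hc
        rcases dich_odd h e (by omega) (by omega) (by omega) hc with h5 | h5
        · exact absurd (h5.trans card_dvd_preE) (h3X c h8 hc')
        · exact el_prime hc.prime h5
  have hA2 : AExt 2 (preE (eP hG eT) Y) := by
    rcases hev.loc hQ hdim _ preE_le_O hYr4 hYc with h5 | ⟨s, hs, hsd, hA⟩ | h5
    · exact absurd h5 hRY
    · have hs2 : s = 2 := by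
        have h6 : s ∣ 2 ^ 2 := by
          have h7 := Nat.dvd_sub (hsd.trans (Nat.gcd_dvd_left _ _)) (hsd.trans (Nat.gcd_dvd_right _ _))
          rwa [show 2 * m - (2 * m - 4) = 2 ^ 2 by omega] at h7
        exact (Nat.prime_dvd_prime_iff_eq hs Nat.prime_two).1 (hs.dvd_of_dvd_pow h6)
      rwa [hs2] at hA
    · exact absurd h5 (not_E_le h.fac.not_le_right)
  have hpol : ∀ g ∈ preE (eP hG eT) Y, ∀ u v, polar Q (g u) (g v) = polar Q u v := fun g hg u v =>
    polar_O (preE_le_O hg) u v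
  rcases Nat.lt_or_ge m 8 with h8 | h8
  · -- `m = 6`
    have hm6 : m = 6 := by
      obtain ⟨k, hk⟩ := he
      omega
    have hp2 : p = 2 := by
      have hpF := Fact.mk h.prime
      have hch : CharP F p := charP_of_card_eq_prime_pow h.fcard
      have h5 : ((2 : ℕ) : F) = 0 := by exact_mod_cast h20
      rw [CharP.cast_eq_zero_iff F p 2] at h5
      exact (Nat.prime_dvd_prime_iff_eq h.prime Nat.prime_two).1 h5
    have hf2 : 2 ≤ f := by
      by_contra hcon
      have hf1 : f = 1 := by omega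
      have := hq hm6
      rw [hp2, hf1] at this
      omega
    obtain ⟨t, ht⟩ := exists_pp (q := p) (e := f * 6) h.prime.two_le (by omega) (by omega)
    have ht' := h.pp ht
    have htX : ¬ t ∣ Nat.card (X.subgroupOf T) := fun h5 =>
      h6X t (by rw [show 2 * m - 6 = 6 by omega]; exact ht') (h5.trans card_dvd_preE)
    obtain ⟨g, hg, hgt, hgd⟩ := exists_six h hm6 ht htX
    obtain ⟨y, hy, hyr, hy1⟩ := El.exists_prime hdc.pp4.prime hdc.pos4 hYr4
    have hyd := (block hr4' (by omega) (by rw [hdim]; omega) (preE_le_O hy) hyr hy1).1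
    exact H522.Rg.sp_not_two_elt hQ hpol hirr (j := 2 * m - 4) (k := 6) hr4' ht' ⟨m - 2, by omega⟩ (by decide) (by omega)
      (by norm_num) (by rw [hm6]; decide) hy hg hyr hgt hyd hgd hA2
  · obtain ⟨t, ht⟩ := exists_pp (q := p) (e := f * (2 * m - 6)) h.prime.two_le
      (by have := Nat.le_mul_of_pos_left (2 * m - 6) hpos; omega)
      (by have := Nat.le_mul_of_pos_left (2 * m - 6) hpos; omega)
    have ht' := h.pp ht
    have htd : t ^ 1 ∣ (p ^ f) ^ (2 * m - 6) - 1 := by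
      rw [pow_one, ← h.card]
      exact (ht'.dvd_iff Nat.card_pos _).2 dvd_rfl
    have htY : t ∣ Nat.card (Y.subgroupOf T) := by
      rcases h.side (k := 2 * m - 6) ⟨m - 3, by omega⟩ (by omega) (by omega) (by omega) ht with h5 | h5
      · have h6 := h5 1 htd
        rw [pow_one] at h6
        exact absurd (h6.trans card_dvd_preE) (h6X t ht')
      · have h6 := h5 1 htd
        rwa [pow_one] at h6
    exact H522.Rg.sp_not_two hQ hpol hr4' ht' (by rw [hdim]; omega) (by rw [hdim]; omega) hirr ⟨m - 2, by omega⟩ ⟨m - 3, by omega⟩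
      (by omega) (by omega) ⟨m - 3, by omega⟩ (hr4d.trans card_dvd_preE) (htY.trans card_dvd_preE) hA2

end Cfsg.Agent.H499.Rg
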