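import Cfsg.Agent.H826.RgF.Glue
import Cfsg.Agent.H522.Rg.YSec

/-!
# S3691, row plus type, m ≥ 5 : the case m even, r_(m-1) in Y (helper499, for helper826)
-/

set_option autoImplicit false
set_option linter.unusedSectionVars false

namespace Cfsg.Agent.H499.Rg

open Module QuadraticMap Cfsg Cfsg.Geo Cfsg.Agent.LieClassical.OrthCore Cfsg.Agent.LieClassical.OrthTrans
  Cfsg.Agent.H454.Reg Cfsg.Agent.H449.Reg Cfsg.Agent.H955 Cfsg.Agent.H954.TSing Cfsg.Agent.H884.El Cfsg.Agent.H826.RgF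
open Cfsg.Agent.H951 (fx cm Inv)
open Cfsg.Agent.H826.Rg (preE mem_preE preE_le_E preE_le_O mem_preE_iff mem_preE_iff' card_preE)
open Cfsg.Agent.H964.Rg (ResV ResP Cx)
open Cfsg.Agent.LieClassical.OrthFinite (glEquiv)
open scoped MatrixGroups Matrix

universe u

variable {ι : Type} [Fintype ι] [DecidableEq ι] {F : Type} [Field F] [Fintype F] {Q : QuadraticForm F (ι → F)}
variable {G : Type u} [Group G] [Finite G] {T : Subgroup G} [T.Normal] {hG : Good Q} {eT : T ≃* POmega F (⇑Q)}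
  {hI : Ind (eP hG eT)} {X Y : Subgroup G} {p f m : ℕ}

theorem ne_two_pp {q e r : ℕ} (h : PP q e r) (he : 2 ≤ e) : r ≠ 2 := by
  have := h.lt (by omega)
  omega

/-- **me_y1**: `m` even, `r2` in `X`, `r4` in `Y`, `r_(m-1)` in `Y`; `hNB` = `not_both_rd`, `hβ` = `beta_X` -/
theorem me_y1_of (h : Cx hI X Y p f m (2 * m - 2)) (e : Nonempty (T ≃* POmega F (quadFormPlus m F))) (hP : IsPlus Q) (hm : 6 ≤ m)
    (he : Even m) (hq : m = 6 → 2 < p ^ f) {r2 i r4 j w b c : ℕ} (hD : DEv F p f m r2 i r4 j w b c)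
    (h2 : r2 ^ i ∣ Nat.card (X.subgroupOf T)) (h4 : r4 ^ j ∣ Nat.card (Y.subgroupOf T)) (hw : w ∣ Nat.card (Y.subgroupOf T))
    (hNB : Rd (preE (eP hG eT) X) → Rd (preE (eP hG eT) Y) → False)
    (hβ : Rd (preE (eP hG eT) Y) → (b.Prime ∧ 30 < b ∧ b ∣ (p ^ f) ^ m - 1 ∧ f = 1 ∧ p ≤ 3 ∧ m = 10) →
      b ∣ Nat.card (preE (eP hG eT) X)) : False := by
  have hQ : Nondeg Q := hG.nondeg
  have hdim := h.finrank_V
  have hev := hD.ev
  have hdc := hev.dc
  have hw' := h.pp hev.ppw
  have hr4' := h.pp hdc.pp4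
  have hr2' := h.pp hdc.pp2
  have hpos := h.pos
  have hwo : Odd (m - 1) := by
    obtain ⟨k, hk⟩ := he
    exact ⟨k - 1, by omega⟩
  have hr4d : r4 ∣ Nat.card (Y.subgroupOf T) := (dvd_pow_self r4 (by have := hdc.pos4; omega)).trans h4
  have hr2d : r2 ∣ Nat.card (X.subgroupOf T) := (dvd_pow_self r2 (by have := hdc.pos2; omega)).trans h2
  -- `B`
  have hYr4 : El (preE (eP hG eT) Y) (r4 ^ j) := el_preE h.symm hdc.pp4 (by omega) (by omega) h4
  have hYw : El (preE (eP hG eT) Y) w := el_prime hev.ppw.prime hw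
  have hwY : w ∣ Nat.card (preE (eP hG eT) Y) := hw.trans card_dvd_preE
  have hRY : Rd (preE (eP hG eT) Y) := by
    rcases hev.lo4 hQ hdim _ preE_le_O hYr4 hYw with h5 | ⟨s, hs, hsd, hA⟩ | h5
    · exact h5
    · exfalso
      have hs2 : s = 2 := by
        have h6 : s ∣ 2 ^ 2 := by
          have h7 := Nat.dvd_sub (hsd.trans (Nat.gcd_dvd_left _ _)) (hsd.trans (Nat.gcd_dvd_right _ _))
          rwa [show 2 * m - (2 * m - 4) = 2 ^ 2 by omega] at h7
        exact (Nat.prime_dvd_prime_iff_eq hs Nat.prime_two).1 (hs.dvd_of_dvd_pow h6)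
      subst hs2
      exact H522.Rg.o_not_two_odd hQ preE_le_O hw' hwo (by omega) (by rw [hdim]; omega) hwY hA
    · exact absurd h5 (not_E_le h.fac.not_le_right)
  have hr2Y : ¬ r2 ∣ Nat.card (preE (eP hG eT) Y) := by
    rw [dvd_preE_iff hdc.pp2.prime (ne_two_pp hr2' (by omega))]
    intro h5
    exact h.not_both hr2' (by omega) (by omega) hr2d h5
  have h6Y := H522.Rg.y1_sec hQ hdim he hm hP preE_le_O hr4' rfl hdc.pos4 hYr4 hw' hYw hr2' hr2Y hD.lo4a hD.lo4b hD.ls4 hRY
  -- `A`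
  have hXr2 : El (preE (eP hG eT) X) (r2 ^ i) := el_preE h hdc.pp2 (by omega) (by omega) h2
  have hRX : ¬ Rd (preE (eP hG eT) X) := fun h5 => hNB h5 hRY
  have hXb : El (preE (eP hG eT) X) b := by
    rcases hev.hb with rfl | hb
    · exact ⟨1, one_mem _, orderOf_one⟩
    · exact el_of_dvd hb.1 (hβ hRY hb)
  have hA2 : AExt 2 (preE (eP hG eT) X) := by
    rcases hev.lob hQ hdim _ preE_le_O hXr2 hXb with h5 | ⟨s, hs, hsd, hA⟩ | h5
    · exact absurd h5 hRX
    · have hs2 : s = 2 := by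
        have h6 : s ∣ 2 := by
          have h7 := Nat.dvd_sub (hsd.trans (Nat.gcd_dvd_left _ _)) (hsd.trans (Nat.gcd_dvd_right _ _))
          rwa [show 2 * m - (2 * m - 2) = 2 by omega] at h7
        exact (Nat.prime_dvd_prime_iff_eq hs Nat.prime_two).1 h6
      rwa [hs2] at hA
    · exact absurd h5 (not_E_le h.fac.not_le_left)
  have hr4X : ¬ r4 ∣ Nat.card (preE (eP hG eT) X) := by
    rw [dvd_preE_iff hdc.pp4.prime (ne_two_pp hr4' (by omega))]
    intro h5
    exact h.not_both hr4' (by omega) (by omega) h5 hr4d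
  rcases Nat.lt_or_ge m 8 with h8 | h8
  · -- `m = 6`
    have hm6 : m = 6 := by
      obtain ⟨k, hk⟩ := he
      omega
    subst hm6
    rcases hev.kx6 rfl hQ hdim _ preE_le_O hRX hA2 hXr2 with h5 | h5
    · exact hr4X (h5 r4 hr4')
    · have hpf := hq rfl
      have h26 : ¬ (p = 2 ∧ f * 6 = 6) := by
        rintro ⟨rfl, h6⟩
        have : f = 1 := by omega
        subst this
        omega
      obtain ⟨t, ht⟩ := exists_pp (q := p) (e := f * 6) h.prime.two_le (by omega) h26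
      have ht' := h.pp ht
      have ht2 := ne_two_pp ht' (by norm_num)
      have h6 := h5 t (((p ^ f) ^ 6 - 1).factorization t) ht' (by
        rw [h.card]
        exact Nat.ordProj_dvd _ _)
      have hfE : Finite ((ι → F) ≃ₗ[F] (ι → F)) :=
        Finite.of_injective (fun e : (ι → F) ≃ₗ[F] (ι → F) => (e : (ι → F) → (ι → F))) DFunLike.coe_injective
      have h7 := (ht.prime.pow_dvd_iff_le_factorization Nat.card_pos.ne').1 h6
      rw [← fac_preE' (e := eP hG eT) (X := X) ht.prime ht2 hG] at h7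
      have h8 : t ∣ Nat.card (Y.subgroupOf T) := by
        rw [← dvd_preE_iff (hG := hG) (eT := eT) ht.prime ht2]
        exact h6Y t ht'
      have h9 := ht.prime.factorization_pos_of_dvd Nat.card_pos.ne' h8
      have h10 := h.fac.val_le t
      have h11 := H859.Rg.plus_six h.prime h.pos h.fcard ht e
      omega
  · rcases hev.kx h8 hQ hdim _ preE_le_O hRX hA2 hXr2 hXb with h5 | h5
    · exact hr4X (h5 r4 hr4')
    · obtain ⟨t, ht⟩ := exists_pp (q := p) (e := f * (2 * m - 6)) h.prime.two_le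
        (by have := Nat.le_mul_of_pos_left (2 * m - 6) hpos; omega)
        (by have := Nat.le_mul_of_pos_left (2 * m - 6) hpos; omega)
      have ht' := h.pp ht
      have ht2 := ne_two_pp ht' (by omega)
      have h6 : t ∣ Nat.card (X.subgroupOf T) := by
        rw [← dvd_preE_iff (hG := hG) (eT := eT) ht.prime ht2]
        exact h5 t ht'
      have h7 : t ∣ Nat.card (Y.subgroupOf T) := by
        rw [← dvd_preE_iff (hG := hG) (eT := eT) ht.prime ht2]
        exact h6Y t ht'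
      exact h.not_both ht' (by omega) (by omega) h6 h7

end Cfsg.Agent.H499.Rg
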